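import Mathlib

/-! # Equalizers of regular maps out of finite products of normal domains -/

set_option autoImplicit false
universe u

set_option linter.unusedSectionVars false

namespace InvEq31

variable {ι : Type u} [Fintype ι] {D : ι → Type u} [∀ i, CommRing (D i)] [∀ i, IsDomain (D i)]
  {R : Type u} [CommRing R]

/-- The idempotent supported on a set of indices. -/
noncomputable def idem (T : Set ι) : Π i, D i := open scoped Classical in fun i => if i ∈ T then 1 else 0

theorem idem_of_mem {T : Set ι} {i : ι} (h : i ∈ T) : idem (D := D) T i = 1 := if_pos h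

theorem idem_of_notMem {T : Set ι} {i : ι} (h : i ∉ T) : idem (D := D) T i = 0 := if_neg h

theorem add_idem_mem_nonZeroDivisors {T : Set ι} {a : Π i, D i} (h : ∀ i, a i ≠ 0 ↔ i ∈ T) :
    a + (1 - idem T) ∈ nonZeroDivisors (Π i, D i) := by
  refine mem_nonZeroDivisors_iff_right.mpr fun z hz => funext fun i => ?_
  have hi := congrFun hz i
  simp only [Pi.mul_apply, Pi.add_apply, Pi.sub_apply, Pi.one_apply, Pi.zero_apply] at hi ⊢
  by_cases hT : i ∈ T
  · rw [idem_of_mem hT, sub_self, add_zero] at hi
    exact (mul_eq_zero.mp hi).resolve_right ((h i).mpr hT)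
  · rw [idem_of_notMem hT, sub_zero, not_not.mp ((not_congr (h i)).mpr hT), zero_add, mul_one] at hi
    exact hi

theorem map_idem_mul_eq_zero {f g : (Π i, D i) →+* R}
    (hg : ∀ s ∈ nonZeroDivisors (Π i, D i), g s ∈ nonZeroDivisors R)
    {a : Π i, D i} (hfg : f a = g a) {T : Set ι} (h : ∀ i, a i ≠ 0 ↔ i ∈ T) :
    g (idem T) * (1 - f (idem T)) = 0 := by
  have hae : idem T * a = a := funext fun i => by
    by_cases hT : i ∈ T
    · simp [idem_of_mem hT]
    · simp [idem_of_notMem hT, not_not.mp ((not_congr (h i)).mpr hT)]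
  have hee : idem (D := D) T * idem T = idem T := funext fun i => by
    by_cases hT : i ∈ T <;> simp [idem_of_mem, idem_of_notMem, hT]
  refine (mem_nonZeroDivisors_iff_right.mp (hg _ (add_idem_mem_nonZeroDivisors h))) _ ?_
  rw [map_add, map_sub, map_one]
  have h1 : g (idem T) * g a = g a := by rw [← map_mul, hae]
  have h2 : f (idem T) * f a = f a := by rw [← map_mul, hae]
  have h3 : g (idem T) * g (idem T) = g (idem T) := by rw [← map_mul, hee]
  rw [hfg] at h2
  linear_combination (1 - f (idem T)) * h1 - h2 - (1 - f (idem T)) * h3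

variable {F : Set ((Π i, D i) →+* R)} (hF : ∀ f ∈ F, ∀ s ∈ nonZeroDivisors (Π i, D i), f s ∈ nonZeroDivisors R)
  {A : Subring (Π i, D i)} (hA : ∀ a, a ∈ A ↔ ∀ f ∈ F, ∀ f' ∈ F, f a = f' a)

include hF hA in
theorem idem_support_mem {a : Π i, D i} (ha : a ∈ A) : idem {i | a i ≠ 0} ∈ A := by
  refine (hA _).mpr fun f hf g hg => ?_
  have h1 := map_idem_mul_eq_zero (hF g hg) ((hA a).mp ha f hf g hg) (T := {i | a i ≠ 0}) fun _ => Iff.rfl
  have h2 := map_idem_mul_eq_zero (hF f hf) ((hA a).mp ha g hg f hf) (T := {i | a i ≠ 0}) fun _ => Iff.rfl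
  linear_combination h2 - h1

variable (A) in
/-- Indices not separated by the subring. -/
def rel : Setoid ι where
  r i j := ∀ a ∈ A, a i = 0 ↔ a j = 0
  iseqv := ⟨fun _ _ _ => Iff.rfl, fun h a ha => (h a ha).symm, fun h h' a ha => (h a ha).trans (h' a ha)⟩

include hF hA in
theorem idem_class_mem (i : ι) : idem {j | (rel A).r i j} ∈ A := by
  classical
  have key : ∀ j, ¬ (rel A).r i j → ∃ u ∈ A, u i = 1 ∧ u j = 0 ∧ ∀ l, (rel A).r i l → u l = 1 := by
    intro j hj
    obtain ⟨a, ha, h⟩ := not_forall₂.mp hj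
    have hu := idem_support_mem hF hA ha
    by_cases hi : a i = 0
    · have hj0 : a j ≠ 0 := fun e => h ⟨fun _ => e, fun _ => hi⟩
      refine ⟨1 - idem {l | a l ≠ 0}, sub_mem (one_mem _) hu, ?_, ?_, fun l hl => ?_⟩
      · simp [idem_of_notMem, hi]
      · simp [idem_of_mem, hj0]
      · simp [idem_of_notMem, (hl a ha).mp hi]
    · have hj0 : a j = 0 := not_not.mp fun e => h ⟨fun x => absurd x hi, fun x => absurd x e⟩
      exact ⟨idem {l | a l ≠ 0}, hu, idem_of_mem (T := {l | a l ≠ 0}) hi,
        idem_of_notMem (T := {l | a l ≠ 0}) (by simp [hj0]),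
        fun l hl => idem_of_mem (T := {l | a l ≠ 0}) fun e => hi ((hl a ha).mpr e)⟩
  choose! u hu hu1 hu0 hul using key
  suffices idem {j | (rel A).r i j} = ∏ j ∈ Finset.univ.filter (fun j => ¬ (rel A).r i j), u j by
    rw [this]
    exact prod_mem fun j hj => hu j (Finset.mem_filter.mp hj).2
  funext l
  rw [Finset.prod_apply]
  by_cases hl : (rel A).r i l
  · rw [idem_of_mem (T := {j | (rel A).r i j}) hl]
    exact (Finset.prod_eq_one fun j hj => hul j (Finset.mem_filter.mp hj).2 l hl).symm
  · rw [idem_of_notMem (T := {j | (rel A).r i j}) hl]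
    exact (Finset.prod_eq_zero (Finset.mem_filter.mpr ⟨Finset.mem_univ l, hl⟩) (hu0 l hl)).symm

variable (A) in
/-- Restriction to a class of indices. -/
def res (J : Quotient (rel A)) : (Π i, D i) →+* Π i : {i // Quotient.mk (rel A) i = J}, D i.1 :=
  RingHom.pi fun i => Pi.evalRingHom D i.1

variable (A) in
/-- A factor of the subring. -/
def fac (J : Quotient (rel A)) : Subring (Π i : {i // Quotient.mk (rel A) i = J}, D i.1) := A.map (res A J)

theorem res_apply (J : Quotient (rel A)) (a : Π i, D i) (i : {i // Quotient.mk (rel A) i = J}) :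
    res A J a i = a i.1 := rfl

theorem fac_ne_zero {J : Quotient (rel A)} {x : fac A J} (hx : x ≠ 0)
    (i : {i // Quotient.mk (rel A) i = J}) : x.1 i ≠ 0 := by
  obtain ⟨a, ha, e⟩ := x.2
  intro h0
  refine hx (Subtype.ext (funext fun j => ?_))
  rw [← e, res_apply] at h0 ⊢
  exact ((Quotient.exact (s := rel A) (i.2.trans j.2.symm)) a ha).mp h0

theorem nonempty_class (J : Quotient (rel A)) : Nonempty {i // Quotient.mk (rel A) i = J} :=
  ⟨⟨J.out, Quotient.out_eq J⟩⟩

theorem isDomain_fac (J : Quotient (rel A)) : IsDomain (fac A J) := by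
  obtain ⟨i⟩ := nonempty_class J
  have : Nontrivial (fac A J) := ⟨0, 1, fun h => zero_ne_one (congrFun (congrArg Subtype.val h) i : (0 : D i.1) = 1)⟩
  have : NoZeroDivisors (fac A J) := ⟨fun {x y} h => by
    by_contra hc
    obtain ⟨hx, hy⟩ := not_or.mp hc
    exact mul_ne_zero (fac_ne_zero hx i) (fac_ne_zero hy i) (congrFun (congrArg Subtype.val h) i)⟩
  exact NoZeroDivisors.to_isDomain _

set_option synthInstance.maxHeartbeats 400000 in
set_option maxHeartbeats 1000000 in
include hF hA in
theorem isIntegrallyClosed_fac [∀ i, IsIntegrallyClosed (D i)] (J : Quotient (rel A)) :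
    IsIntegrallyClosed (fac A J) := by
  classical
  have := isDomain_fac (A := A) J
  refine (isIntegrallyClosed_iff (FractionRing (fac A J))).mpr fun {x} hx => ?_
  obtain ⟨α, β, hβ, rfl⟩ := IsFractionRing.div_surjective (fac A J) x
  have hβ0 : β ≠ 0 := nonZeroDivisors.ne_zero hβ
  obtain ⟨p, hp, hpz⟩ := hx
  let φ : ∀ i : {i // Quotient.mk (rel A) i = J}, fac A J →+* FractionRing (D i.1) := fun i =>
    (algebraMap (D i.1) (FractionRing (D i.1))).comp ((Pi.evalRingHom _ i).comp (fac A J).subtype)
  have hφinj : ∀ i, Function.Injective (φ i) := fun i => (injective_iff_map_eq_zero (φ i)).mpr fun y hy => by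
    by_contra hy0
    exact fac_ne_zero hy0 i ((IsFractionRing.injective (D i.1) (FractionRing (D i.1)))
      (by rw [map_zero]; exact hy))
  have hc : ∀ i : {i // Quotient.mk (rel A) i = J}, ∃ c : D i.1, c * β.1 i = α.1 i := fun i => by
    let ψ := IsFractionRing.lift (K := FractionRing (fac A J)) (hφinj i)
    have hψ : ∀ y, ψ (algebraMap (fac A J) (FractionRing (fac A J)) y) = φ i y :=
      IsFractionRing.lift_algebraMap _
    have hint : IsIntegral (D i.1) (ψ (algebraMap (fac A J) (FractionRing (fac A J)) α /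
        algebraMap (fac A J) (FractionRing (fac A J)) β)) := by
      refine ⟨p.map ((Pi.evalRingHom _ i).comp (fac A J).subtype), hp.map _, ?_⟩
      have h := congrArg ψ hpz
      rw [map_zero, Polynomial.hom_eval₂] at h
      rw [Polynomial.eval₂_map]
      rw [show ψ.comp (algebraMap (fac A J) (FractionRing (fac A J))) = φ i from RingHom.ext hψ] at h
      exact h
    obtain ⟨c, hc⟩ := IsIntegrallyClosed.isIntegral_iff.mp hint
    refine ⟨c, IsFractionRing.injective (D i.1) (FractionRing (D i.1)) ?_⟩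
    rw [map_mul, hc, map_div₀, hψ, hψ]
    exact div_mul_cancel₀ _ ((hφinj i).ne_iff' (map_zero _) |>.mpr hβ0)
  choose c hc using hc
  obtain ⟨j, rfl⟩ := Quotient.mk_surjective J
  let c' : Π i, D i := fun i => if h : Quotient.mk (rel A) i = Quotient.mk (rel A) j then c ⟨i, h⟩ else 0
  obtain ⟨a, ha, eα⟩ := α.2
  obtain ⟨b, hb, eβ⟩ := β.2
  let e := idem (D := D) {i | (rel A).r j i}
  have he := idem_class_mem hF hA j
  have hcl : ∀ i, Quotient.mk (rel A) i = Quotient.mk (rel A) j ↔ (rel A).r j i := fun i =>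
    ⟨fun h => Quotient.exact h.symm, fun h => (Quotient.sound h).symm⟩
  have hce : c' * e = c' := funext fun i => by
    by_cases h : Quotient.mk (rel A) i = Quotient.mk (rel A) j
    · simp [e, idem_of_mem (T := {i | (rel A).r j i}) ((hcl i).mp h)]
    · simp [c', h]
  have hcb : c' * b = e * a := funext fun i => by
    by_cases h : Quotient.mk (rel A) i = Quotient.mk (rel A) j
    · have h' := hc ⟨i, h⟩
      rw [← eα, ← eβ, res_apply, res_apply] at h'
      simp [e, c', h, idem_of_mem (T := {i | (rel A).r j i}) ((hcl i).mp h), h']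
    · simp [e, c', h, idem_of_notMem (T := {i | (rel A).r j i}) (fun x => h ((hcl i).mpr x))]
  have hnzd : e * b + (1 - e) ∈ nonZeroDivisors (Π i, D i) := by
    refine add_idem_mem_nonZeroDivisors fun i => ?_
    by_cases h : Quotient.mk (rel A) i = Quotient.mk (rel A) j
    · have hi := (hcl i).mp h
      refine iff_of_true ?_ hi
      simp only [e, Pi.mul_apply, idem_of_mem (T := {i | (rel A).r j i}) hi, one_mul]
      have := fac_ne_zero hβ0 ⟨i, h⟩
      rwa [← eβ, res_apply] at this
    · have hi : i ∉ {i | (rel A).r j i} := fun x => h ((hcl i).mpr x)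
      exact iff_of_false (by simp [e, idem_of_notMem hi]) hi
  have hc'A : c' ∈ A := (hA c').mpr fun f hf g hg => by
    have hea := (hA _).mp (mul_mem he ha) f hf g hg
    have hee := (hA _).mp he f hf g hg
    have hbb := (hA _).mp hb f hf g hg
    refine sub_eq_zero.mp ((mem_nonZeroDivisors_iff_right.mp (hF g hg _ hnzd)) _ ?_)
    have e1 := congrArg f hce
    have e2 := congrArg g hce
    have e3 := congrArg f hcb
    have e4 := congrArg g hcb
    simp only [map_mul, map_add, map_sub, map_one] at e1 e2 e3 e4 hea ⊢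
    linear_combination (g b - 1) * e1 - (g b - 1) * e2 + hea + e3 - e4 -
      f c' * (g b - 1) * hee - f c' * hbb
  refine ⟨⟨res A _ c', c', hc'A, rfl⟩, ?_⟩
  rw [eq_div_iff ((map_ne_zero_iff _ (IsFractionRing.injective _ _)).mpr hβ0), ← map_mul]
  refine congrArg _ (Subtype.ext (funext fun i => ?_))
  show c' i.1 * β.1 i = α.1 i
  simp only [c', dif_pos i.2]
  exact hc i

include hF hA in
theorem nonempty_equiv : Nonempty (A ≃+* Π J, fac A J) := by
  classical
  let φ : A →+* Π J, fac A J := RingHom.pi fun J =>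
    ((res A J).comp A.subtype).codRestrict (fac A J) fun a => ⟨a.1, a.2, rfl⟩
  refine ⟨RingEquiv.ofBijective φ ⟨fun a b h => Subtype.ext (funext fun i => ?_), fun y => ?_⟩⟩
  · exact congrFun (congrArg Subtype.val (congrFun h (Quotient.mk _ i))) ⟨i, rfl⟩
  · choose a ha hay using fun J => (y J).2
    have : Fintype (Quotient (rel A)) := Fintype.ofFinite _
    refine ⟨⟨∑ J, idem {j | (rel A).r J.out j} * a J,
      sum_mem fun J _ => mul_mem (idem_class_mem hF hA J.out) (ha J)⟩, funext fun J => Subtype.ext ?_⟩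
    rw [← hay J]
    funext i
    show (∑ K : Quotient (rel A), idem (D := D) {j | (rel A).r K.out j} * a K : Π i, D i) i.1 = a J i.1
    rw [Finset.sum_apply, Finset.sum_eq_single J]
    · rw [Pi.mul_apply, idem_of_mem (T := {j | (rel A).r J.out j})
        (Quotient.exact ((Quotient.out_eq J).trans i.2.symm)), one_mul]
    · intro (K : Quotient (rel A)) _ hK
      rw [Pi.mul_apply, idem_of_notMem (T := {j | (rel A).r K.out j}) (fun h => hK ?_), zero_mul]
      rw [← Quotient.out_eq K, ← i.2]
      exact Quotient.sound h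
    · exact fun h => absurd (Finset.mem_univ J) h

end InvEq31
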